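import Mathlib

set_option autoImplicit false
set_option linter.unusedSectionVars false
set_option linter.unusedVariables false
set_option linter.unusedSimpArgs false
set_option linter.style.haveILetI false
set_option maxHeartbeats 400000

/-!
# Products of valuation rings: Bezout, flat ideals, localisation
-/

open TensorProduct

namespace Groth.Agent.Lib.Helper6.NormFib

universe u

section Prod

variable {ι : Type u} (W : ι → Type u) [∀ i, CommRing (W i)] [∀ i, IsDomain (W i)]
  [∀ i, ValuationRing (W i)]

/-- a product of valuation rings is a Bezout ring -/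
lemma pi_isBezout : IsBezout (Π i, W i) := by
  classical
  rw [IsBezout.iff_span_pair_isPrincipal]
  intro x y
  -- the indicator of the set where `x_i ∣ y_i`
  let ε : Π i, W i := fun i => if ∃ c, x i * c = y i then 1 else 0
  let z : Π i, W i := ε * x + (1 - ε) * y
  have hz : z ∈ Ideal.span ({x, y} : Set (Π i, W i)) := by
    apply Ideal.add_mem
    · exact Ideal.mul_mem_left _ _ (Ideal.subset_span (Set.mem_insert _ _))
    · exact Ideal.mul_mem_left _ _ (Ideal.subset_span (Set.mem_insert_of_mem _ rfl))
  have hx : x ∈ Ideal.span ({z} : Set (Π i, W i)) := by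
    rw [Ideal.mem_span_singleton']
    have h : ∀ i, ∃ α : W i, α * z i = x i := by
      intro i
      by_cases hi : ∃ c, x i * c = y i
      · refine ⟨1, ?_⟩
        simp [z, ε, hi]
      · obtain ⟨c, hc | hc⟩ := ValuationRing.cond (x i) (y i)
        · exact absurd ⟨c, hc⟩ hi
        · refine ⟨c, ?_⟩
          simp only [z, ε, Pi.add_apply, Pi.mul_apply, Pi.sub_apply, Pi.one_apply, if_neg hi]
          rw [← hc]
          ring
    choose α hα using h
    exact ⟨α, funext hα⟩
  have hy : y ∈ Ideal.span ({z} : Set (Π i, W i)) := by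
    rw [Ideal.mem_span_singleton']
    have h : ∀ i, ∃ β : W i, β * z i = y i := by
      intro i
      by_cases hi : ∃ c, x i * c = y i
      · obtain ⟨c, hc⟩ := hi
        refine ⟨c, ?_⟩
        have hi' : ∃ c, x i * c = y i := ⟨c, hc⟩
        simp only [z, ε, Pi.add_apply, Pi.mul_apply, Pi.sub_apply, Pi.one_apply, if_pos hi']
        rw [← hc]
        ring
      · refine ⟨1, ?_⟩
        simp [z, ε, hi]
    choose β hβ using h
    exact ⟨β, funext hβ⟩
  refine ⟨⟨z, ?_⟩⟩
  apply le_antisymm
  · rw [Submodule.span_le]
    intro w hw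
    rcases hw with rfl | hw
    · exact hx
    · rw [Set.mem_singleton_iff] at hw
      subst hw
      exact hy
  · change Ideal.span {z} ≤ _
    rw [Ideal.span_le]
    intro w hw
    rw [Set.mem_singleton_iff] at hw
    subst hw
    exact hz

/-- annihilators in products of domains are generated by idempotents -/
lemma pi_ann (a x : Π i, W i) (h : a * x = 0) : ∃ e : Π i, W i, e * a = 0 ∧ e * x = x := by
  classical
  refine ⟨fun i => if a i = 0 then 1 else 0, ?_, ?_⟩
  · funext i
    by_cases hi : a i = 0
    · simp [hi]
    · simp [hi]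
  · funext i
    by_cases hi : a i = 0
    · simp [hi]
    · have := congrFun h i
      simp only [Pi.mul_apply, Pi.zero_apply] at this
      rcases mul_eq_zero.mp this with h1 | h1
      · exact absurd h1 hi
      · simp [hi, h1]

end Prod

/-- in a Bezout ring whose annihilators are idempotent-generated, every ideal is flat -/
lemma ideal_flat_of_bezout {V : Type u} [CommRing V] [IsBezout V]
    (hann : ∀ a x : V, a * x = 0 → ∃ e : V, e * a = 0 ∧ e * x = x) (I : Ideal V) :
    Module.Flat V I := by
  rw [Module.Flat.iff_rTensor_injective]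
  intro J hJ
  obtain ⟨a, rfl⟩ := (IsBezout.isPrincipal_of_FG J hJ).principal
  rw [injective_iff_map_eq_zero]
  intro z hz
  set a' : (Submodule.span V {a} : Ideal V) := ⟨a, Submodule.mem_span_singleton_self a⟩ with ha'
  -- every element is `a' ⊗ x`
  have hform : ∀ z : (Submodule.span V {a} : Ideal V) ⊗[V] I, ∃ x : I, z = a' ⊗ₜ[V] x := by
    intro z
    induction z using TensorProduct.induction_on with
    | zero => exact ⟨0, by simp⟩
    | tmul j x =>
      obtain ⟨v, hv⟩ := Submodule.mem_span_singleton.mp j.2
      refine ⟨v • x, ?_⟩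
      have : j = v • a' := Subtype.ext hv.symm
      rw [this, TensorProduct.smul_tmul]
    | add y z hy hz =>
      obtain ⟨x₁, rfl⟩ := hy
      obtain ⟨x₂, rfl⟩ := hz
      exact ⟨x₁ + x₂, by rw [TensorProduct.tmul_add]⟩
  obtain ⟨x, rfl⟩ := hform z
  rw [LinearMap.rTensor_tmul] at hz
  have h1 := congrArg (TensorProduct.lid V I) hz
  rw [TensorProduct.lid_tmul, map_zero] at h1
  have h2 : a * (x : V) = 0 := by
    have := congrArg Subtype.val h1
    simpa using this
  obtain ⟨e, he1, he2⟩ := hann a x h2
  have hx : e • x = x := Subtype.ext he2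
  rw [← hx, ← TensorProduct.smul_tmul]
  have : e • a' = 0 := Subtype.ext he1
  rw [this, TensorProduct.zero_tmul]

section Loc

variable {K : Type u} [Field K] {ι : Type u} (W : ι → ValuationSubring K)

/-- the inclusion `Π W_i → Π K` -/
def incl : (Π i, W i) →+* (ι → K) :=
  RingHom.pi (fun i => (W i).subtype.comp (Pi.evalRingHom (fun i => W i) i))

lemma incl_apply (v : Π i, W i) (i : ι) : incl W v i = (v i : K) := rfl

lemma incl_injective : Function.Injective (incl W) := by
  intro v w h
  funext i
  exact Subtype.ext (congrFun h i)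

/-- the multiplicative set of families of nonzero elements -/
def nz : Submonoid (Π i, W i) where
  carrier := {v | ∀ i, v i ≠ 0}
  one_mem' := fun i => one_ne_zero
  mul_mem' := fun {a b} ha hb i => mul_ne_zero (ha i) (hb i)

lemma incl_isLocalization :
    letI := (incl W).toAlgebra
    IsLocalization (nz W) (ι → K) := by
  letI := (incl W).toAlgebra
  have halg : ∀ v : Π i, W i, algebraMap (Π i, W i) (ι → K) v = incl W v := fun v => rfl
  rw [isLocalization_iff]
  refine ⟨?_, ?_, ?_⟩
  · rintro ⟨s, hs⟩
    rw [halg, Pi.isUnit_iff]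
    intro i
    rw [isUnit_iff_ne_zero, incl_apply]
    intro h
    exact hs i (Subtype.ext h)
  · intro z
    have h : ∀ i, ∃ (v s : W i), s ≠ 0 ∧ z i * (s : K) = (v : K) := by
      intro i
      rcases (W i).mem_or_inv_mem (z i) with h1 | h1
      · exact ⟨⟨z i, h1⟩, 1, one_ne_zero, by simp⟩
      · by_cases hz : z i = 0
        · exact ⟨0, 1, one_ne_zero, by simp [hz]⟩
        · refine ⟨1, ⟨(z i)⁻¹, h1⟩, ?_, ?_⟩
          · intro h
            have := congrArg Subtype.val h
            simp at this
            exact hz this
          · simp [hz]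
    choose v s hs hvs using h
    refine ⟨⟨v, ⟨s, hs⟩⟩, ?_⟩
    funext i
    rw [halg, halg]
    exact hvs i
  · intro x y h
    rw [halg, halg] at h
    exact ⟨1, by rw [incl_injective W h]⟩

end Loc

end Groth.Agent.Lib.Helper6.NormFib
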