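import Mathlib
import Groth.Agent.Lib.Helper6.NormFib.NFa

set_option autoImplicit false
set_option linter.unusedSectionVars false
set_option linter.unusedVariables false
set_option linter.unusedSimpArgs false
set_option linter.style.haveILetI false
set_option maxHeartbeats 400000

/-!
# A normal domain is the fibre product of a product of valuation rings and its fraction field
-/

open CategoryTheory

namespace Groth.Agent.Lib.Helper6.NormFib

universe u

lemma range_isIntegrallyClosedIn (A K : Type u) [CommRing A] [IsDomain A] [Field K] [Algebra A K]
    [IsFractionRing A K] [IsIntegrallyClosed A] :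
    IsIntegrallyClosedIn (algebraMap A K).range K := by
  rw [Subring.isIntegrallyClosedIn_iff]
  intro x hx
  letI : Algebra A (algebraMap A K).range := (algebraMap A K).rangeRestrict.toAlgebra
  haveI : IsScalarTower A (algebraMap A K).range K := IsScalarTower.of_algebraMap_eq (fun a => rfl)
  haveI : Algebra.IsIntegral A (algebraMap A K).range :=
    Algebra.isIntegral_of_surjective (algebraMap A K).rangeRestrict_surjective
  have h1 : IsIntegral A x := isIntegral_trans x hx
  obtain ⟨y, hy⟩ := (isIntegrallyClosed_iff K).mp ‹_› h1
  exact ⟨y, hy⟩

theorem main (A K : Type u) [CommRing A] [IsDomain A] [Field K] [Algebra A K]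
    [IsFractionRing A K] [IsIntegrallyClosed A] :
    ∃ (V L : Type u) (_ : CommRing V) (_ : CommRing L) (f : A →+* V) (g : V →+* L) (h : K →+* L),
      g.comp f = h.comp (algebraMap A K) ∧
      (∀ I : Ideal V, Module.Flat V I) ∧ g.Flat ∧ Function.Injective g ∧
      Epi (CommRingCat.ofHom g) ∧
      ∀ (v : V) (k : K), g v = h k → ∃! a : A, f a = v ∧ algebraMap A K a = k := by
  classical
  let R₀ : Subring K := (algebraMap A K).range
  haveI hR₀ : IsIntegrallyClosedIn R₀ K := range_isIntegrallyClosedIn A K
  let ι := {W : ValuationSubring K // R₀ ≤ W.toSubring}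
  let W : ι → ValuationSubring K := fun i => i.1
  let f : A →+* (Π i, W i) :=
    { toFun := fun a i => ⟨algebraMap A K a, i.2 ⟨a, rfl⟩⟩
      map_one' := by funext i; apply Subtype.ext; simp
      map_mul' := by intro a b; funext i; apply Subtype.ext; simp
      map_zero' := by funext i; apply Subtype.ext; simp
      map_add' := by intro a b; funext i; apply Subtype.ext; simp }
  refine ⟨Π i, W i, ι → K, inferInstance, inferInstance, f, incl W, Pi.constRingHom ι K,
    ?_, ?_, ?_, incl_injective W, ?_, ?_⟩
  · ext a i
    rfl
  · haveI := pi_isBezout (fun i => W i)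
    exact ideal_flat_of_bezout (pi_ann (fun i => W i))
  · letI := (incl W).toAlgebra
    haveI := incl_isLocalization W
    change Module.Flat (Π i, W i) (ι → K)
    exact IsLocalization.flat (ι → K) (nz W)
  · letI := (incl W).toAlgebra
    haveI := incl_isLocalization W
    exact IsLocalization.epi (nz W) (ι → K)
  · intro v k hvk
    have hk : ∀ i : ι, k ∈ W i := by
      intro i
      have := congrFun hvk i
      rw [incl_apply] at this
      change (v i : K) = k at this
      rw [← this]
      exact (v i).2
    have hkR : k ∈ R₀ := by
      have h1 : R₀ = ⨅ V : {V : ValuationSubring K // R₀ ≤ V.toSubring}, V.1.toSubring :=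
        Subring.eq_iInf_of_isIntegrallyClosedIn
      rw [h1, Subring.mem_iInf]
      intro i
      exact hk i
    obtain ⟨a, ha⟩ := hkR
    refine ⟨a, ⟨?_, ha⟩, ?_⟩
    · funext i
      apply Subtype.ext
      have := congrFun hvk i
      rw [incl_apply] at this
      change (v i : K) = k at this
      rw [this]
      exact ha
    · rintro b ⟨_, hb⟩
      exact IsFractionRing.injective A K (hb.trans ha.symm)

end Groth.Agent.Lib.Helper6.NormFib
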